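import Mathlib

/-!
# Solvable groups of similitudes of a symmetric bilinear form (helper20)

`IrrB K d k`: the `k`-th derived subgroup of a finite solvable group acts trivially on its irreducible modules of
dimension `d` over `K`.  `FormB K n k`: the same for modules of dimension `n` on which the group acts by similitudes of
a non-degenerate symmetric bilinear form.  `step` is the recursion through a minimal submodule.
-/

set_option autoImplicit false

namespace Cfsg.Agent.DS.D4

open Module LinearMap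

/-- `W` is invariant -/
def Inv {K V X : Type} [Field K] [AddCommGroup V] [Module K V] [Group X] (ρ : Representation K X V)
    (W : Submodule K V) : Prop := ∀ g, ∀ v ∈ W, ρ g v ∈ W

/-- no proper invariant subspace -/
def Irr {K V X : Type} [Field K] [AddCommGroup V] [Module K V] [Group X] (ρ : Representation K X V) : Prop :=
  ∀ W : Submodule K V, Inv ρ W → W = ⊥ ∨ W = ⊤

/-- bound for irreducible modules -/
def IrrB (K : Type) [Field K] (d k : ℕ) : Prop :=
  ∀ (V : Type) [AddCommGroup V] [Module K V] [FiniteDimensional K V] (X : Type) [Group X] [Finite X]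
    [Group.IsSolvable X] (ρ : Representation K X V), finrank K V = d → Irr ρ → ∀ x ∈ derivedSeries X k, ρ x = 1

/-- projective bound for irreducible modules -/
def IrrP (K : Type) [Field K] (d k : ℕ) : Prop :=
  ∀ (V : Type) [AddCommGroup V] [Module K V] [FiniteDimensional K V] (X : Type) [Group X] [Finite X]
    [Group.IsSolvable X] (ρ : Representation K X V), finrank K V = d → Irr ρ →
      ∀ x ∈ derivedSeries X k, ∃ c : K, ∀ v, ρ x v = c • v

/-- the group acts by similitudes with multiplier `m` -/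
structure Sim {K V X : Type} [Field K] [AddCommGroup V] [Module K V] [Group X] (B : LinearMap.BilinForm K V)
    (ρ : Representation K X V) (m : X →* Kˣ) : Prop where
  symm : ∀ x y, B x y = B y x
  nd : ∀ x, (∀ y, B x y = 0) → x = 0
  sim : ∀ g x y, B (ρ g x) (ρ g y) = m g * B x y

/-- bound for modules with a form -/
def FormB (K : Type) [Field K] (n k : ℕ) : Prop :=
  ∀ (V : Type) [AddCommGroup V] [Module K V] [FiniteDimensional K V] (X : Type) [Group X] [Finite X]
    [Group.IsSolvable X] (B : LinearMap.BilinForm K V) (ρ : Representation K X V) (m : X →* Kˣ), finrank K V = n →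
      Sim B ρ m → ∀ x ∈ derivedSeries X k, ρ x = 1

section group

variable {X : Type} [Group X]

theorem der_succ_le {N M : Subgroup X} {j : ℕ} (h : derivedSeries X j ≤ N)
    (hc : ∀ g ∈ N, ∀ h ∈ N, g * h * g⁻¹ * h⁻¹ ∈ M) : derivedSeries X (j + 1) ≤ M := by
  rw [derivedSeries_succ]
  refine (Subgroup.commutator_mono h h).trans ?_
  rw [Subgroup.commutator_le]
  exact hc

theorem der_le_ker {A : Type} [CommGroup A] (m : X →* A) {j : ℕ} (hj : 1 ≤ j) : derivedSeries X j ≤ m.ker := by
  refine (derivedSeries_antitone X hj).trans ?_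
  refine der_succ_le (N := ⊤) (j := 0) le_top ?_
  intro g _ h _
  rw [MonoidHom.mem_ker, map_mul, map_mul, map_mul, map_inv, map_inv, mul_comm (m g) (m h)]
  group

end group

section step

variable {K V X : Type} [Field K] [AddCommGroup V] [Module K V] [Group X]

theorem rho_inv (ρ : Representation K X V) (g : X) (v : V) : ρ g⁻¹ (ρ g v) = v := by
  rw [← Module.End.mul_apply, ← map_mul, inv_mul_cancel, map_one, Module.End.one_apply]

theorem rho_inv' (ρ : Representation K X V) (g : X) (v : V) : ρ g (ρ g⁻¹ v) = v := by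
  rw [← Module.End.mul_apply, ← map_mul, mul_inv_cancel, map_one, Module.End.one_apply]

theorem rho_mul (ρ : Representation K X V) (g h : X) (v : V) : ρ (g * h) v = ρ g (ρ h v) := by
  rw [map_mul, Module.End.mul_apply]

/-- the kernel of a representation -/
def kerR (ρ : Representation K X V) : Subgroup X where
  carrier := {g | ρ g = 1}
  mul_mem' := by
    intro a b (ha : ρ a = 1) (hb : ρ b = 1)
    show ρ (a * b) = 1
    rw [map_mul, ha, hb, one_mul]
  one_mem' := map_one ρ
  inv_mem' := by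
    intro a (ha : ρ a = 1)
    show ρ a⁻¹ = 1
    ext v
    have := rho_inv ρ a v
    rw [ha, Module.End.one_apply] at this
    rw [this, Module.End.one_apply]

theorem comm_mem_kerR (ρ : Representation K X V) {g h : X} (hc : ∀ v, ρ g (ρ h v) = ρ h (ρ g v)) :
    g * h * g⁻¹ * h⁻¹ ∈ kerR ρ := by
  show ρ _ = 1
  ext v
  rw [rho_mul, rho_mul, rho_mul, hc, rho_inv', rho_inv', Module.End.one_apply]

/-- the elements acting trivially on `W'/W` -/
def trivOn (ρ : Representation K X V) (W W' : Submodule K V) (hW : Inv ρ W) (hW' : Inv ρ W') : Subgroup X where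
  carrier := {g | ∀ v ∈ W', ρ g v - v ∈ W}
  mul_mem' := by
    intro a b ha hb v hv
    have h1 := W.add_mem (hW a _ (hb v hv)) (ha v hv)
    rwa [map_sub, sub_add_sub_cancel, ← rho_mul] at h1
  one_mem' := by
    intro v _
    rw [map_one, Module.End.one_apply, sub_self]
    exact W.zero_mem
  inv_mem' := by
    intro a ha v hv
    have h1 := W.neg_mem (ha _ (hW' a⁻¹ v hv))
    rwa [rho_inv', neg_sub] at h1

theorem mem_trivOn {ρ : Representation K X V} {W W' : Submodule K V} {hW : Inv ρ W} {hW' : Inv ρ W'} {g : X} :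
    g ∈ trivOn ρ W W' hW hW' ↔ ∀ v ∈ W', ρ g v - v ∈ W := Iff.rfl

theorem inv_bot (ρ : Representation K X V) : Inv ρ ⊥ := by
  intro g v hv
  rw [Submodule.mem_bot] at hv ⊢
  rw [hv, map_zero]

theorem inv_top (ρ : Representation K X V) : Inv ρ ⊤ := fun _ _ _ => trivial

theorem Inv.inf {ρ : Representation K X V} {W W' : Submodule K V} (hW : Inv ρ W) (hW' : Inv ρ W') :
    Inv ρ (W ⊓ W') := fun g v hv => ⟨hW g v hv.1, hW' g v hv.2⟩

/-- the action on an invariant subspace -/
def subR (ρ : Representation K X V) (W : Submodule K V) (hW : Inv ρ W) : Representation K X W :=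
  ρ.subrepresentation W (fun g v hv => hW g v hv)

theorem subR_apply (ρ : Representation K X V) (W : Submodule K V) (hW : Inv ρ W) (g : X) (v : W) :
    (subR ρ W hW g v : V) = ρ g v := rfl

theorem fix_of_subR {ρ : Representation K X V} {W : Submodule K V} {hW : Inv ρ W} {g : X} (h : subR ρ W hW g = 1) :
    ∀ v ∈ W, ρ g v = v := by
  intro v hv
  have := congrArg Subtype.val (LinearMap.congr_fun h ⟨v, hv⟩)
  exact this

/-- a minimal invariant subspace -/
theorem exists_min [FiniteDimensional K V] (ρ : Representation K X V) {W₀ : Submodule K V} (h₀ : Inv ρ W₀)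
    (hb : W₀ ≠ ⊥) : ∃ W : Submodule K V, W ≤ W₀ ∧ W ≠ ⊥ ∧ Inv ρ W ∧
      ∀ W' : Submodule K V, Inv ρ W' → W' ≤ W → W' = ⊥ ∨ W' = W := by
  obtain ⟨W, ⟨h1, h2, h3⟩, hmin⟩ := WellFounded.has_min (wellFounded_lt (α := Submodule K V))
    {W | W ≤ W₀ ∧ W ≠ ⊥ ∧ Inv ρ W} ⟨W₀, le_rfl, hb, h₀⟩
  refine ⟨W, h1, h2, h3, fun W' hW' hle => ?_⟩
  by_cases h4 : W' = ⊥
  · exact Or.inl h4
  · exact Or.inr (eq_of_le_of_not_lt hle (hmin W' ⟨hle.trans h1, h4, hW'⟩))

theorem irr_subR {ρ : Representation K X V} {W : Submodule K V} (hW : Inv ρ W)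
    (hmin : ∀ W' : Submodule K V, Inv ρ W' → W' ≤ W → W' = ⊥ ∨ W' = W) : Irr (subR ρ W hW) := by
  intro U hU
  have h1 : Inv ρ (U.map W.subtype) := by
    rintro g _ ⟨u, hu, rfl⟩
    exact ⟨_, hU g u hu, rfl⟩
  rcases hmin _ h1 (Submodule.map_subtype_le W U) with h | h
  · left
    rwa [← Submodule.map_bot W.subtype, (Submodule.map_injective_of_injective W.injective_subtype).eq_iff] at h
  · right
    apply Submodule.map_injective_of_injective W.injective_subtype
    rw [h, Submodule.map_subtype_top]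

variable {B : LinearMap.BilinForm K V} {ρ : Representation K X V} {m : X →* Kˣ}

theorem Sim.refl (h : Sim B ρ m) : B.IsRefl := fun x y hxy => by rw [h.symm, hxy]

theorem Sim.nondeg (h : Sim B ρ m) : B.Nondegenerate :=
  ⟨fun x hx => h.nd x hx, fun x hx => h.nd x fun y => by rw [h.symm]; exact hx y⟩

theorem Sim.inv_orth (h : Sim B ρ m) {W : Submodule K V} (hW : Inv ρ W) : Inv ρ (B.orthogonal W) := by
  intro g v hv w hw
  have h1 := h.sim g (ρ g⁻¹ w) v
  rw [rho_inv'] at h1
  have h2 : B (ρ g⁻¹ w) v = 0 := hv _ (hW g⁻¹ w hw)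
  show B w (ρ g v) = 0
  rw [h1, h2, mul_zero]

/-- restriction to a non-degenerate invariant subspace -/
theorem Sim.sub (h : Sim B ρ m) {W : Submodule K V} (hW : Inv ρ W) (hd : W ⊓ B.orthogonal W = ⊥) :
    Sim (B.restrict W) (subR ρ W hW) m := by
  refine ⟨fun x y => h.symm x y, fun x hx => ?_, fun g x y => h.sim g x y⟩
  have h1 : (x : V) ∈ W ⊓ B.orthogonal W := ⟨x.2, fun w hw => by
    have := hx ⟨w, hw⟩
    show B w x = 0
    rw [h.symm]; exact this⟩
  rw [hd, Submodule.mem_bot] at h1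
  exact Subtype.ext h1

/-- the case of a totally isotropic invariant subspace: the group acting trivially on the three factors -/
theorem Sim.iso [FiniteDimensional K V] (h : Sim B ρ m) {W : Submodule K V} (hW : Inv ρ W)
    (hle : W ≤ B.orthogonal W) {j : ℕ} (h1 : ∀ x ∈ derivedSeries X j, ∀ v ∈ W, ρ x v = v)
    (h2 : ∀ x ∈ derivedSeries X j, ∀ v ∈ B.orthogonal W, ρ x v - v ∈ W) (h3 : ∀ x ∈ derivedSeries X j, m x = 1) :
    derivedSeries X (j + 2) ≤ kerR ρ ∧
      ((finrank K W = 1 ∨ finrank K V = 2 * finrank K W) → derivedSeries X (j + 1) ≤ kerR ρ) := by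
  have hP := h.inv_orth hW
  have h4 : ∀ x ∈ derivedSeries X j, ∀ v, ρ x v - v ∈ B.orthogonal W := by
    intro x hx v w hw
    have h5 := h.sim x w v
    rw [h1 x hx w hw, h3 x hx, Units.val_one, one_mul] at h5
    show B w (ρ x v - v) = 0
    rw [map_sub, h5, sub_self]
  -- the commutator of two elements
  have h5 : ∀ g ∈ derivedSeries X j, ∀ k ∈ derivedSeries X j, ∀ v,
      ρ g (ρ k v) - ρ k (ρ g v) = (ρ g (ρ k v - v) - (ρ k v - v)) - (ρ k (ρ g v - v) - (ρ g v - v)) := by
    intro g _ k _ v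
    rw [map_sub, map_sub]; abel
  have h6 : ∀ g ∈ derivedSeries X j, ∀ k ∈ derivedSeries X j, ∀ v, ρ g (ρ k v) - ρ k (ρ g v) ∈ W := by
    intro g hg k hk v
    rw [h5 g hg k hk]
    exact W.sub_mem (h2 g hg _ (h4 k hk v)) (h2 k hk _ (h4 g hg v))
  have h7 : ∀ g ∈ derivedSeries X j, ∀ k ∈ derivedSeries X j, ∀ v ∈ B.orthogonal W, ρ g (ρ k v) = ρ k (ρ g v) := by
    intro g hg k hk v hv
    rw [← sub_eq_zero, h5 g hg k hk, h1 g hg _ (h2 k hk v hv), h1 k hk _ (h2 g hg v hv), sub_self, sub_self, sub_self]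
  have h8 : ∀ g ∈ derivedSeries X j, ∀ k ∈ derivedSeries X j, ∀ v, B (ρ g (ρ k v) - ρ k (ρ g v)) v = 0 := by
    have h9 : ∀ g ∈ derivedSeries X j, ∀ k ∈ derivedSeries X j, ∀ v,
        B (ρ g (ρ k v - v) - (ρ k v - v)) v = - B (ρ k v - v) (ρ g v - v) := by
      intro g hg k hk v
      have e1 := h.sim g (ρ k v - v) v
      rw [h3 g hg, Units.val_one, one_mul] at e1
      have e2 : B (ρ g (ρ k v - v) - (ρ k v - v)) (ρ g v - v) = 0 := h4 g hg v _ (h2 g hg _ (h4 k hk v))
      simp only [map_sub, LinearMap.sub_apply] at e1 e2 ⊢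
      linear_combination e1 - e2
    intro g hg k hk v
    rw [h5 g hg k hk, map_sub, LinearMap.sub_apply, h9 g hg k hk, h9 k hk g hg, h.symm (ρ k v - v), sub_self]
  constructor
  · have h10 : derivedSeries X (j + 1) ≤ trivOn ρ ⊥ (B.orthogonal W) (inv_bot ρ) hP ⊓ trivOn ρ W ⊤ hW (inv_top ρ) := by
      refine der_succ_le le_rfl fun g hg k hk => ⟨fun v hv => ?_, fun v _ => ?_⟩
      · rw [Submodule.mem_bot, sub_eq_zero, rho_mul, rho_mul, rho_mul,
          h7 g hg k hk _ (hP _ _ (hP _ _ hv)), rho_inv', rho_inv']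
      · have h11 := h6 g hg k hk (ρ g⁻¹ (ρ k⁻¹ v))
        rwa [rho_inv', rho_inv', ← rho_mul, ← rho_mul, ← rho_mul] at h11
    refine der_succ_le h10 fun g hg k hk => comm_mem_kerR ρ fun v => ?_
    have e : ∀ g ∈ trivOn ρ ⊥ (B.orthogonal W) (inv_bot ρ) hP ⊓ trivOn ρ W ⊤ hW (inv_top ρ),
        ∀ k ∈ trivOn ρ ⊥ (B.orthogonal W) (inv_bot ρ) hP ⊓ trivOn ρ W ⊤ hW (inv_top ρ),
        ρ g (ρ k v) = ρ g v + (ρ k v - v) := by
      intro g hg k hk
      have e1 := hg.1 _ (hle (hk.2 v trivial))
      rw [Submodule.mem_bot, sub_eq_zero, map_sub] at e1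
      rw [← e1]; abel
    rw [e g hg k hk, e k hk g hg]; abel
  · rintro (hw | hw)
    · refine der_succ_le le_rfl fun g hg k hk => comm_mem_kerR ρ fun v => ?_
      by_cases hv : v ∈ B.orthogonal W
      · exact h7 g hg k hk v hv
      · by_contra hne
        apply hv
        have hne' : ρ g (ρ k v) - ρ k (ρ g v) ≠ 0 := sub_ne_zero.2 hne
        have e1 := (finrank_eq_one_iff_of_nonzero' (⟨_, h6 g hg k hk v⟩ : W)
          (fun h0 => hne' (congrArg Subtype.val h0))).1 hw
        intro w hw'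
        obtain ⟨c, hc⟩ := e1 ⟨w, hw'⟩
        have e2 : c • (ρ g (ρ k v) - ρ k (ρ g v)) = w := congrArg Subtype.val hc
        show B w v = 0
        rw [← e2, map_smul, LinearMap.smul_apply, h8 g hg k hk, smul_zero]
    · have e1 : W = B.orthogonal W := by
        refine Submodule.eq_of_le_of_finrank_eq hle ?_
        rw [LinearMap.BilinForm.finrank_orthogonal h.nondeg]; omega
      refine der_succ_le le_rfl fun g hg k hk => comm_mem_kerR ρ fun v => ?_
      have e2 : ∀ g ∈ derivedSeries X j, ρ g v - v ∈ W := fun g hg => e1.ge (h4 g hg v)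
      rw [← sub_eq_zero, h5 g hg k hk, h1 g hg _ (e2 k hk), h1 k hk _ (e2 g hg), sub_self, sub_self, sub_self]

/-- the form and the action on `W^⊥ / W` -/
theorem Sim.quot [FiniteDimensional K V] [Finite X] [Group.IsSolvable X] (h : Sim B ρ m) {W : Submodule K V}
    (hW : Inv ρ W) (hle : W ≤ B.orthogonal W) {k : ℕ} (hk : FormB K (finrank K V - 2 * finrank K W) k) :
    ∀ x ∈ derivedSeries X k, ∀ v ∈ B.orthogonal W, ρ x v - v ∈ W := by
  have hP := h.inv_orth hW
  set P := B.orthogonal W with hPdef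
  let N : Submodule K P := W.comap P.subtype
  have hN : ∀ g, N ≤ N.comap (subR ρ P hP g) := fun g v hv => hW g v hv
  have hk1 : N ≤ LinearMap.ker (B.restrict P) := by
    intro v hv
    rw [LinearMap.mem_ker]
    ext y
    exact y.2 v hv
  have hk2 : N ≤ LinearMap.ker (LinearMap.flip (B.restrict P)) := by
    intro v hv
    rw [LinearMap.mem_ker]
    ext y
    have : B v y = 0 := y.2 v hv
    show B y v = 0
    rw [h.symm]; exact this
  let B' : LinearMap.BilinForm K (P ⧸ N) := LinearMap.liftQ₂ N N (B.restrict P) hk1 hk2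
  have hB' : ∀ x y : P, B' (Submodule.Quotient.mk x) (Submodule.Quotient.mk y) = B x y := fun _ _ => rfl
  let ρ' : Representation K X (P ⧸ N) := (subR ρ P hP).quotient N hN
  have hρ' : ∀ g (x : P), ρ' g (Submodule.Quotient.mk x) = Submodule.Quotient.mk (subR ρ P hP g x) := fun _ _ => rfl
  have hs : Sim B' ρ' m := by
    refine ⟨fun x y => ?_, fun x hx => ?_, fun g x y => ?_⟩
    · obtain ⟨x, rfl⟩ := Submodule.Quotient.mk_surjective N x
      obtain ⟨y, rfl⟩ := Submodule.Quotient.mk_surjective N y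
      rw [hB', hB', h.symm]
    · obtain ⟨x, rfl⟩ := Submodule.Quotient.mk_surjective N x
      rw [Submodule.Quotient.mk_eq_zero]
      show (x : V) ∈ W
      rw [← LinearMap.BilinForm.orthogonal_orthogonal h.nondeg h.refl W]
      intro y hy
      have := hx (Submodule.Quotient.mk ⟨y, hy⟩)
      rw [hB'] at this
      show B y x = 0
      rw [h.symm]; exact this
    · obtain ⟨x, rfl⟩ := Submodule.Quotient.mk_surjective N x
      obtain ⟨y, rfl⟩ := Submodule.Quotient.mk_surjective N y
      rw [hρ', hρ', hB', hB']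
      exact h.sim g x y
  have hd : finrank K (P ⧸ N) = finrank K V - 2 * finrank K W := by
    have e1 := Submodule.finrank_quotient_add_finrank N
    have e2 : finrank K N = finrank K W := (Submodule.comapSubtypeEquivOfLe hle).finrank_eq
    have e3 : finrank K P = finrank K V - finrank K W := LinearMap.BilinForm.finrank_orthogonal h.nondeg W
    omega
  intro x hx v hv
  have e := LinearMap.congr_fun (hk _ X B' ρ' m hd hs x hx) (Submodule.Quotient.mk ⟨v, hv⟩)
  rw [hρ', Module.End.one_apply, Submodule.Quotient.eq] at e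
  exact e

/-- **The recursion** for a reducible module. -/
theorem step [FiniteDimensional K V] [Finite X] [Group.IsSolvable X] (h : Sim B ρ m) {n k : ℕ}
    (hn : finrank K V = n) (hred : ¬ Irr ρ) (τ σ : ℕ → ℕ) (hτ : ∀ w, 1 ≤ w → w < n → IrrB K w (τ w))
    (hσ : ∀ j, j < n → FormB K j (σ j)) (h1 : ∀ w, 1 ≤ w → w < n → τ w ≤ k ∧ σ (n - w) ≤ k)
    (h2 : ∀ w, 1 ≤ w → 2 * w ≤ n →
      max 1 (max (τ w) (σ (n - 2 * w))) + (if w = 1 ∨ n = 2 * w then 1 else 2) ≤ k) :
    ∀ x ∈ derivedSeries X k, ρ x = 1 := by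
  obtain ⟨W₀, h₀, hb, ht⟩ : ∃ W₀ : Submodule K V, Inv ρ W₀ ∧ W₀ ≠ ⊥ ∧ W₀ ≠ ⊤ := by
    by_contra hcon
    push Not at hcon
    refine hred fun W hW => ?_
    by_cases h3 : W = ⊥
    · exact Or.inl h3
    · exact Or.inr (hcon W hW h3)
  obtain ⟨W, hW0, hWb, hW, hmin⟩ := exists_min ρ h₀ hb
  have hw1 : 1 ≤ finrank K W := by
    rw [Nat.one_le_iff_ne_zero, Ne, Submodule.finrank_eq_zero]; exact hWb
  have hw2 : finrank K W < n := by
    rw [← hn]
    exact Submodule.finrank_lt (fun h3 => ht (top_le_iff.1 (h3 ▸ hW0)))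
  have hP := h.inv_orth hW
  have hfix : ∀ x ∈ derivedSeries X (τ (finrank K W)), ∀ v ∈ W, ρ x v = v := fun x hx =>
    fix_of_subR (hτ _ hw1 hw2 W X (subR ρ W hW) rfl (irr_subR hW hmin) x hx)
  have hdP : finrank K (B.orthogonal W) = n - finrank K W := by
    rw [← hn]; exact LinearMap.BilinForm.finrank_orthogonal h.nondeg W
  rcases hmin _ (hW.inf hP) inf_le_left with h3 | h3
  · have h4 : B.orthogonal W ⊓ B.orthogonal (B.orthogonal W) = ⊥ := by
      rw [LinearMap.BilinForm.orthogonal_orthogonal h.nondeg h.refl, inf_comm, h3]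
    have h5 : ∀ x ∈ derivedSeries X (σ (n - finrank K W)), ∀ v ∈ B.orthogonal W, ρ x v = v := fun x hx =>
      fix_of_subR (hσ _ (by omega) _ X _ _ m hdP (h.sub hP h4) x hx)
    have h6 : W ⊔ B.orthogonal W = ⊤ := by
      apply Submodule.eq_top_of_finrank_eq
      have := Submodule.finrank_sup_add_finrank_inf_eq W (B.orthogonal W)
      rw [h3, finrank_bot] at this
      omega
    intro x hx
    ext v
    obtain ⟨a, ha, b, hb, rfl⟩ := Submodule.mem_sup.1 (h6 ▸ Submodule.mem_top : v ∈ W ⊔ B.orthogonal W)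
    rw [map_add, hfix x (derivedSeries_antitone X (h1 _ hw1 hw2).1 hx) a ha,
      h5 x (derivedSeries_antitone X (h1 _ hw1 hw2).2 hx) b hb, Module.End.one_apply]
  · have hle : W ≤ B.orthogonal W := h3.ge.trans inf_le_right
    have h4 : 2 * finrank K W ≤ n := by
      have := Submodule.finrank_mono hle
      omega
    have h5 := h.quot hW hle (k := σ (n - 2 * finrank K W)) (by rw [hn]; exact hσ _ (by omega))
    have h6 := h.iso hW hle (j := max 1 (max (τ (finrank K W)) (σ (n - 2 * finrank K W))))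
      (fun x hx => hfix x (derivedSeries_antitone X (by omega) hx))
      (fun x hx => h5 x (derivedSeries_antitone X (by omega) hx))
      (fun x hx => der_le_ker m (le_max_left _ _) hx)
    have h7 := h2 _ hw1 h4
    intro x hx
    split_ifs at h7 with h8
    · exact h6.2 (by rw [hn]; exact h8) (derivedSeries_antitone X h7 hx)
    · exact h6.1 (derivedSeries_antitone X h7 hx)

end step

/-- the table of bounds for irreducible modules -/
def tauT : ℕ → ℕ
  | 0 => 0
  | 1 => 1
  | 2 => 4
  | 3 => 5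
  | 4 => 5
  | 5 => 6
  | 6 => 6
  | _ => 7

/-- the table of bounds for modules with a symmetric form -/
def sigT : ℕ → ℕ
  | 0 => 0
  | 1 => 1
  | 2 => 4
  | 3 => 5
  | 4 => 5
  | 5 => 6
  | 6 => 6
  | _ => 7

theorem tab_one : ∀ n ≤ 8, ∀ w < n, 1 ≤ w → tauT w ≤ sigT n ∧ sigT (n - w) ≤ sigT n := by decide

theorem tab_two : ∀ n ≤ 8, ∀ w ≤ 4, 1 ≤ w → 2 * w ≤ n →
    max 1 (max (tauT w) (sigT (n - 2 * w))) + (if w = 1 ∨ n = 2 * w then 1 else 2) ≤ sigT n := by decide

theorem formB_tab {K : Type} [Field K] (hτ : ∀ w, 1 ≤ w → w ≤ 7 → IrrB K w (tauT w)) (n : ℕ) (hn : n ≤ 7) :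
    FormB K n (sigT n) := by
  induction n using Nat.strong_induction_on with
  | _ n ih =>
    intro V _ _ _ X _ _ _ B ρ m hd hs
    by_cases hi : Irr ρ
    · rcases Nat.eq_zero_or_pos n with h0 | h0
      · intro x _
        have : Subsingleton V := Module.finrank_zero_iff.1 (hd.trans h0)
        ext v
        exact Subsingleton.elim _ _
      · exact hτ n h0 hn V X ρ hd hi
    · exact step hs hd hi tauT sigT (fun w h1 h2 => hτ w h1 (by omega)) (fun j hj => ih j hj (by omega))
        (fun w h1 h2 => tab_one n (by omega) w h2 h1) (fun w h1 h2 => tab_two n (by omega) w (by omega) h1 h2)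

/-- **Dimension eight**: the seventh derived subgroup acts by scalars. -/
theorem eight {K : Type} [Field K] (hτ : ∀ w, 1 ≤ w → w ≤ 7 → IrrB K w (tauT w)) (h8 : IrrP K 8 7)
    {V X : Type} [AddCommGroup V] [Module K V] [FiniteDimensional K V] [Group X] [Finite X] [Group.IsSolvable X]
    {B : LinearMap.BilinForm K V} {ρ : Representation K X V} {m : X →* Kˣ} (hd : finrank K V = 8) (hs : Sim B ρ m) :
    ∀ x ∈ derivedSeries X 7, ∃ c : K, ∀ v, ρ x v = c • v := by
  by_cases hi : Irr ρ
  · exact h8 V X ρ hd hi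
  · intro x hx
    have h := step hs hd hi tauT sigT (fun w h1 h2 => hτ w h1 (by omega)) (fun j hj => formB_tab hτ j (by omega))
      (fun w h1 h2 => tab_one 8 le_rfl w h2 h1) (fun w h1 h2 => tab_two 8 le_rfl w (by omega) h1 h2) x hx
    exact ⟨1, fun v => by rw [h, Module.End.one_apply, one_smul]⟩

end Cfsg.Agent.DS.D4
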