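import Cfsg.Agent.H936.DSFour

/-!
# The second derived subgroup of `Out PΩ₈⁺(q)` is induced by similitudes (helper20)
-/

set_option autoImplicit false

namespace Cfsg.Agent.DS.D4

open Cfsg.Agent.H936

theorem der_one_le_sign {α : Type*} [Fintype α] [DecidableEq α] :
    derivedSeries (Equiv.Perm α) 1 ≤ (Equiv.Perm.sign : Equiv.Perm α →* ℤˣ).ker := by
  rw [derivedSeries_succ, derivedSeries_zero, Subgroup.commutator_le]
  intro a _ b _
  rw [MonoidHom.mem_ker, map_commutatorElement, commutatorElement_eq_one_iff_mul_comm, mul_comm]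

theorem der_two_le_vfour : derivedSeries (Equiv.Perm (Fin 4)) 2 ≤ vfour := by
  rw [derivedSeries_succ]
  refine (Subgroup.commutator_mono der_one_le_sign der_one_le_sign).trans ?_
  rw [Subgroup.commutator_le]
  intro a ha b hb
  have : ∀ a b : Equiv.Perm (Fin 4), Equiv.Perm.sign a = 1 → Equiv.Perm.sign b = 1 →
      (Equiv.Perm.sign (a * b * a⁻¹ * b⁻¹) = 1 ∧ (a * b * a⁻¹ * b⁻¹) * (a * b * a⁻¹ * b⁻¹) = 1) := by
    decide +kernel
  exact this a b (MonoidHom.mem_ker.1 ha) (MonoidHom.mem_ker.1 hb)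

set_option synthInstance.maxSize 2000 in
set_option synthInstance.maxHeartbeats 200000 in
theorem vfour_cases : ∀ b : Equiv.Perm (Fin 4), (Equiv.Perm.sign b = 1 ∧ b * b = 1) → b ≠ 1 →
    ∀ c : Equiv.Perm (Fin 4), (Equiv.Perm.sign c = 1 ∧ c * c = 1) → c ≠ 1 → b ≠ c →
    ∀ a : Equiv.Perm (Fin 4), (Equiv.Perm.sign a = 1 ∧ a * a = 1) → a = 1 ∨ a = b ∨ a = c ∨ a = b * c := by
  decide +kernel

/-- In `S₄ × C` the second derived subgroup is generated by two involutions of the commutator subgroup. -/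
theorem der_two_le {H C : Type*} [Group H] [CommGroup C] (e : H ≃* Equiv.Perm (Fin 4) × C) (D : Subgroup H) {z y : H}
    (hz : z ∈ D) (hy : y ∈ D) (hz' : z ∈ derivedSeries H 1) (hy' : y ∈ derivedSeries H 1) (hz2 : z * z = 1)
    (hy2 : y * y = 1) (hz1 : z ≠ 1) (hy1 : y ≠ 1) (hzy : z ≠ y) : derivedSeries H 2 ≤ D := by
  have h1 : ∀ x ∈ derivedSeries H 1, (e x).2 = 1 := by
    intro x hx
    have h2 : (e x).2 ∈ derivedSeries C 1 :=
      map_derivedSeries_le ((MonoidHom.snd _ C).comp e.toMonoidHom) 1 ⟨x, hx, rfl⟩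
    rwa [derivedSeries_comm (fun a b => mul_comm a b) le_rfl, Subgroup.mem_bot] at h2
  have h2 : ∀ k, ∀ x ∈ derivedSeries H k, (e x).1 ∈ derivedSeries (Equiv.Perm (Fin 4)) k := fun k x hx =>
    map_derivedSeries_le ((MonoidHom.fst _ C).comp e.toMonoidHom) k ⟨x, hx, rfl⟩
  have h3 : ∀ x ∈ derivedSeries H 1, ∀ x' ∈ derivedSeries H 1, (e x).1 = (e x').1 → x = x' := fun x hx x' hx' h =>
    e.injective (Prod.ext h (by rw [h1 x hx, h1 x' hx']))
  have h4 : ∀ x ∈ derivedSeries H 1, x * x = 1 → Equiv.Perm.sign (e x).1 = 1 ∧ (e x).1 * (e x).1 = 1 := by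
    intro x hx hxx
    refine ⟨der_one_le_sign (h2 1 x hx), ?_⟩
    rw [← Prod.fst_mul, ← map_mul, hxx, map_one, Prod.fst_one]
  have h5 : ∀ x ∈ derivedSeries H 1, x ≠ 1 → (e x).1 ≠ 1 := fun x hx hx1 h =>
    hx1 (h3 x hx 1 (one_mem _) (by rw [h, map_one, Prod.fst_one]))
  intro x hx
  have hx1 : x ∈ derivedSeries H 1 := derivedSeries_antitone H (by norm_num) hx
  rcases vfour_cases _ (h4 z hz' hz2) (h5 z hz' hz1) _ (h4 y hy' hy2) (h5 y hy' hy1)
    (fun h => hzy (h3 z hz' y hy' h)) _ (der_two_le_vfour (h2 2 x hx)) with h | h | h | h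
  · rw [h3 x hx1 1 (one_mem _) (by rw [h, map_one, Prod.fst_one])]
    exact one_mem _
  · rw [h3 x hx1 z hz' h]; exact hz
  · rw [h3 x hx1 y hy' h]; exact hy
  · rw [h3 x hx1 (z * y) (mul_mem hz' hy') (by rw [h, map_mul, Prod.fst_mul])]
    exact mul_mem hz hy

open QuadraticMap Cfsg.Agent.LieClassical.QuadForms Cfsg.Agent.LieClassical.OrthCore
  Cfsg.Agent.LieClassical.OrthTrans Cfsg.Agent.LieClassical.OrthSimple
  Cfsg.Agent.ClassicalGeometry.TrialityOct Cfsg.Agent.ClassicalGeometry.OrthAut1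
  Cfsg.Agent.ClassicalGeometry.Triality Cfsg.Agent.ClassicalGeometry.OrthSemi
  Cfsg.Agent.ClassicalGeometry.OrthSemiCount Cfsg.Agent.ClassicalGeometry.OrthSemiForms
  Cfsg.Agent.H989.OutOrth.Abstract Cfsg.Agent.H989.OutOrth.Basic Cfsg.Agent.H989.OutOrth.Forms
  Cfsg.Agent.H989.OutOrth.Small Cfsg.Agent.H989.OutOrth.Tri Cfsg.Agent.H989.OutOrth.SymFour
  Cfsg.Agent.H989.OutOrth.Four

variable {F : Type*} [Field F] [Fintype F]

set_option maxHeartbeats 1000000 in
theorem out_two_odd {p f : ℕ} [Fact p.Prime] (hf : 1 ≤ f) (hF : Fintype.card F = p ^ f) (hp : p ≠ 2) :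
    derivedSeries (Cfsg.Out (P (plusForm 4 F))) 2 ≤ D (good4 (F := F)) := by
  have hpo : Odd p := (Fact.out : p.Prime).odd_of_ne_two hp
  have h2 : (2 : F) ≠ 0 := Cfsg.Agent.LieClassical.PomegaCard.odd_card_iff.1
    (by rw [hF]; exact hpo.pow)
  have hG : Good (plusForm 4 F) := good4
  obtain ⟨e⟩ := odd_case (F := F) hf hF hp
  obtain ⟨ρ, hρ⟩ := exists_rho hG
  obtain ⟨c, hc⟩ := Cfsg.Agent.H989.OutOrth.Plus.exists_nonsquare h2
  have hcard := card_Psi (F := F) hf hF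
  rw [if_neg hp] at hcard
  have hD := card_D_eq hf hF hG (sg_surj4 hG) hcard
  obtain ⟨a, ha'⟩ : ∃ a : V8 F, a = vc (c : F) := ⟨_, rfl⟩
  have hac : plusForm 4 F a = c := by rw [ha', norm_vc]
  have ha : plusForm 4 F a ≠ 0 := by rw [hac]; exact c.ne_zero
  have hca : ¬ IsSquare (plusForm 4 F a) := by rw [hac]; exact hc
  have hnc := not_comm_of_eight hG hD (one_ne (F := F)) (δ0 := LG ha) (isSS_LP ha)
    (fun x _ => sq_cases hca x)
  have hr1D : out (plusForm 4 F) (rf (one8 F) one_ne) ∈ D hG := out_mem_D.2 (sg_rf hG _)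
  have hraD : out (plusForm 4 F) (rf a ha) ∈ D hG := out_mem_D.2 (sg_rf hG _)
  set r1 := out (plusForm 4 F) (rf (one8 F) one_ne) with hr1
  set ra := out (plusForm 4 F) (rf a ha) with hra
  have hcomm : ra * r1 = r1 * ra := out_comm hG _ _
  have hr1s : r1 * r1 = 1 := by rw [hr1, ← map_mul, rf_mul_self, map_one]
  have hras : ra * ra = 1 := by rw [hra, ← map_mul, rf_mul_self, map_one]
  have hL : out _ (LG ha) * r1 = ra * out _ (LG ha) := by
    have h3 : (LG ha).1 (one8 F) = a := omul_one a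
    have h4 : plusForm 4 F ((LG ha).1 (one8 F)) ≠ 0 := by rw [h3]; exact ha
    have h5 := conj_rf (LG ha) (one_ne (F := F)) h4
    have h6 : out _ (rf ((LG ha).1 (one8 F)) h4) = ra := out_rf_of_eq hG h4 ha (by rw [h3])
    rw [← h6, ← h5, map_mul, map_mul, map_inv, inv_mul_cancel_right]
  have hz1 : ra * r1 ≠ 1 := by
    intro h
    apply hnc
    have h3 : ra = r1 := mul_right_cancel (h.trans hr1s.symm)
    rw [hL, h3]
  obtain ⟨X, hX⟩ : ∃ X, X = kapG F * LG ha * kapG F := ⟨_, rfl⟩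
  have hδ : cl ρ * (ra * r1) * (cl ρ)⁻¹ = out _ X := by rw [hX]; exact rho_B hG hρ ha
  have hδr : out _ X * r1 = ra * out _ X := by
    have h3 : X.1 (one8 F) = oconj a := by
      rw [hX]
      show oconj (omul a (oconj (one8 F))) = oconj a
      have h4 : oconj (one8 F) = one8 F := by apply ext8 <;> simp [oconj, one8]
      rw [h4, omul_one]
    have h4 : plusForm 4 F (X.1 (one8 F)) ≠ 0 := by
      rw [h3, norm_oconj]; exact ha
    have h5 := conj_rf X (one_ne (F := F)) h4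
    have h6 : out _ (rf (X.1 (one8 F)) h4) = ra :=
      out_rf_of_eq hG h4 ha (by rw [h3, norm_oconj])
    rw [← h6, ← h5, map_mul, map_mul, map_inv, inv_mul_cancel_right]
  have hXD : out _ X ∈ D hG := by
    rw [out_mem_D, hX, map_mul, map_mul]
    have h3 : sg hG (kapG F) = 1 := sg_ofO hG _
    have h4 : sg hG (LG ha) = 1 := sg_eq hG (isSS_LP ha)
    rw [h3, h4, one_mul, one_mul]
  have hz2 : ra * r1 * (ra * r1) = 1 := by
    calc ra * r1 * (ra * r1) = ra * (r1 * ra) * r1 := by group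
      _ = (ra * ra) * (r1 * r1) := by rw [← hcomm]; group
      _ = 1 := by rw [hras, hr1s, one_mul]
  have hz' : ra * r1 ∈ derivedSeries (Cfsg.Out (P (plusForm 4 F))) 1 := by
    have h3 : ra * r1 = out _ (LG ha) * r1 * (out _ (LG ha))⁻¹ * r1⁻¹ := by
      rw [hL, mul_inv_cancel_right, inv_eq_of_mul_eq_one_left hr1s]
    rw [h3, derivedSeries_succ, derivedSeries_zero]
    exact Subgroup.commutator_mem_commutator (Subgroup.mem_top _) (Subgroup.mem_top _)
  refine der_two_le e (D hG) (z := ra * r1) (y := out _ X) (mul_mem hraD hr1D) hXD hz' ?_ hz2 ?_ hz1 ?_ ?_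
  · rw [← hδ]
    exact (derivedSeries_normal _ 1).conj_mem _ hz' _
  · rw [← hδ]
    calc cl ρ * (ra * r1) * (cl ρ)⁻¹ * (cl ρ * (ra * r1) * (cl ρ)⁻¹) = cl ρ * (ra * r1 * (ra * r1)) * (cl ρ)⁻¹ := by
          group
      _ = 1 := by rw [hz2]; group
  · intro h
    apply hz1
    rw [h] at hδ
    calc ra * r1 = (cl ρ)⁻¹ * (cl ρ * (ra * r1) * (cl ρ)⁻¹) * cl ρ := by group
      _ = 1 := by rw [hδ]; group
  · intro h
    apply hz1
    rw [← h, mul_assoc, hr1s, mul_one, ← mul_assoc, hras, one_mul] at hδr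
    rw [hδr, hr1s]

/-- The second derived subgroup of the outer automorphism group is induced by similitudes. -/
theorem out_two : derivedSeries (Cfsg.Out (P (plusForm 4 F))) 2 ≤ D (good4 (F := F)) := by
  obtain ⟨p, hp⟩ := CharP.exists F
  have hprime : Fact p.Prime := ⟨CharP.char_is_prime F p⟩
  obtain ⟨f, -, hf⟩ := FiniteField.card F p
  by_cases h2 : p = 2
  · obtain ⟨e⟩ := even_case (F := F) (p := p) (f := f) f.pos hf h2
    rw [derivedSeries_eq_bot_of_equiv e (derivedSeries_prod_eq_bot (derivedSeries_perm_three le_rfl)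
      (derivedSeries_comm (fun a b => mul_comm a b) (by norm_num)))]
    exact bot_le
  · exact out_two_odd (p := p) (f := f) f.pos hf h2

/-- The second derived subgroup of the automorphism group is induced by similitudes. -/
theorem aut_two {α : MulAut (P (plusForm 4 F))} (hα : α ∈ derivedSeries (MulAut (P (plusForm 4 F))) 2) :
    ∃ M : Gam (plusForm 4 F), sg (good4 (F := F)) M = 1 ∧ Psi _ M = α := by
  have h1 : cl α ∈ derivedSeries (Cfsg.Out (P (plusForm 4 F))) 2 := map_derivedSeries_le cl 2 ⟨α, hα, rfl⟩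
  obtain ⟨M, hM, h2⟩ := mem_D.1 (out_two h1)
  have h3 : (Psi _ M)⁻¹ * α ∈ Cfsg.Inn (P (plusForm 4 F)) := QuotientGroup.eq.1 h2
  obtain ⟨g, hg⟩ := h3
  obtain ⟨g, rfl⟩ := QuotientGroup.mk_surjective g
  refine ⟨M * ofO _ ⟨g, E_le_O g.2⟩, ?_, ?_⟩
  · rw [map_mul, hM, sg_ofO, one_mul]
  · rw [map_mul, Psi_ofO, hg, mul_inv_cancel_left]

end Cfsg.Agent.DS.D4
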