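import Cfsg.Agent.DS.D4.Form
import Cfsg.Agent.DS.D4.Out
import Cfsg.Agent.DS.Cl.Defs
import Cfsg.Agent.DS.Gen.SD

/-!
# The box `BoxD4` from the bounds for irreducible solvable linear groups (helper20)
-/

set_option autoImplicit false

namespace Cfsg.Agent.DS.D4

open Cfsg.Agent.H936 Module TensorProduct

/-- the bounds for irreducible solvable linear groups of degree at most eight -/
def LinB : Prop := ∀ (K : Type) [Field K] [IsAlgClosed K],
  (∀ w, 1 ≤ w → w ≤ 7 → IrrB K w (tauT w)) ∧ IrrP K 8 7

section bc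

variable {F V X : Type} [Field F] [AddCommGroup V] [Module F V] [FiniteDimensional F V] [Group X]
  (K : Type) [Field K] [Algebra F K]

/-- extension of scalars -/
def bcR (ρ : Representation F X V) : Representation K X (K ⊗[F] V) :=
  (Module.End.baseChangeHom F K V).toMonoidHom.comp ρ

omit [FiniteDimensional F V] in
theorem bcR_tmul (ρ : Representation F X V) (g : X) (a : K) (v : V) : bcR K ρ g (a ⊗ₜ v) = a ⊗ₜ ρ g v := rfl

theorem Sim.bc {B : LinearMap.BilinForm F V} {ρ : Representation F X V} {m : X →* Fˣ} (h : Sim B ρ m) :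
    Sim (B.baseChange K) (bcR K ρ) ((Units.map (algebraMap F K).toMonoidHom).comp m) := by
  have hs : LinearMap.IsSymm B := LinearMap.BilinForm.isSymm_iff.1 ⟨h.symm⟩
  refine ⟨(LinearMap.BilinForm.isSymm_iff.2 (LinearMap.BilinForm.IsSymm.baseChange K hs)).eq, fun x hx => ?_, fun g x y => ?_⟩
  · let b := Module.finBasis F V
    let b' := B.dualBasis h.nondeg b
    have h1 : ∀ (z : K ⊗[F] V) j, B.baseChange K z (1 ⊗ₜ b j) = (b'.baseChange K).repr z j := by
      intro z j
      induction z using TensorProduct.induction_on with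
      | zero => simp
      | tmul a v =>
        rw [LinearMap.BilinForm.baseChange_tmul, Module.Basis.baseChange_repr_tmul, mul_one,
          LinearMap.BilinForm.dualBasis_repr_apply]
      | add u v hu hv => rw [map_add, LinearMap.add_apply, hu, hv, map_add, Finsupp.add_apply]
    apply (b'.baseChange K).repr.injective
    ext j
    rw [← h1, hx, map_zero, Finsupp.zero_apply]
  · induction x using TensorProduct.induction_on with
    | zero => simp
    | add u v hu hv => rw [map_add, map_add, LinearMap.add_apply, hu, hv, map_add, LinearMap.add_apply, mul_add]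
    | tmul a v =>
      induction y using TensorProduct.induction_on with
      | zero => simp
      | add u w hu hw => rw [map_add, map_add, hu, hw, map_add, mul_add]
      | tmul b w =>
        rw [bcR_tmul, bcR_tmul, LinearMap.BilinForm.baseChange_tmul, LinearMap.BilinForm.baseChange_tmul, h.sim,
          mul_smul, Algebra.smul_def]
        rfl

end bc

/-- **Dimension eight over any field**: the seventh derived subgroup acts by central endomorphisms. -/
theorem eight' (hL : LinB) {F V X : Type} [Field F] [AddCommGroup V] [Module F V] [FiniteDimensional F V] [Group X]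
    [Finite X] [Group.IsSolvable X] {B : LinearMap.BilinForm F V} {ρ : Representation F X V} {m : X →* Fˣ}
    (hd : finrank F V = 8) (hs : Sim B ρ m) :
    ∀ x ∈ derivedSeries X 7, ∀ f : Module.End F V, ρ x * f = f * ρ x := by
  intro x hx f
  obtain ⟨h1, h2⟩ := hL (AlgebraicClosure F)
  obtain ⟨c, hc⟩ := eight h1 h2 (by rw [Module.finrank_baseChange, hd]) (hs.bc (AlgebraicClosure F)) x hx
  apply LinearMap.baseChangeHom_injective F V (AlgebraicClosure F)
  show Module.End.baseChangeHom F (AlgebraicClosure F) V (ρ x * f) =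
    Module.End.baseChangeHom F (AlgebraicClosure F) V (f * ρ x)
  rw [map_mul, map_mul]
  refine LinearMap.ext fun v => ?_
  show bcR _ ρ x (Module.End.baseChangeHom F (AlgebraicClosure F) V f v) =
    Module.End.baseChangeHom F (AlgebraicClosure F) V f (bcR _ ρ x v)
  rw [hc, hc, map_smul]

open QuadraticMap Cfsg.Agent.LieClassical.OrthCore
  Cfsg.Agent.LieClassical.OrthTrans Cfsg.Agent.LieClassical.OrthSimple
  Cfsg.Agent.ClassicalGeometry.OrthAut1 Cfsg.Agent.ClassicalGeometry.OrthSemi
  Cfsg.Agent.ClassicalGeometry.OrthSemiCount Cfsg.Agent.ClassicalGeometry.OrthSemiForms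
  Cfsg.Agent.H989.OutOrth.Basic

section sim

variable {F V : Type} [Field F] [AddCommGroup V] [Module F V] {Q : QuadraticForm F V}

/-- similitudes with their multipliers -/
def SimG (Q : QuadraticForm F V) : Subgroup (Gam Q × Fˣ) where
  carrier := {x | IsSS Q (RingEquiv.refl F) x.2 x.1.1}
  mul_mem' := fun {a b} ha hb => ha.mul hb
  one_mem' := ⟨one_ne_zero, fun _ _ => rfl, fun _ _ => rfl, fun _ => by
    show Q _ = ((1 : Fˣ) : F) * Q _
    rw [Units.val_one, one_mul]; rfl⟩
  inv_mem' := by
    intro a ha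
    have h := IsSS.inv ha
    show IsSS Q (RingEquiv.refl F) ((a.2⁻¹ : Fˣ) : F) a.1.1⁻¹
    rw [Units.val_inv_eq_inv_val]
    exact h

/-- the natural module -/
def natR (Q : QuadraticForm F V) : Representation F (SimG Q) V where
  toFun x :=
    { toFun := x.1.1.1
      map_add' := x.2.add
      map_smul' := x.2.smul }
  map_one' := rfl
  map_mul' _ _ := rfl

theorem sim_natR (hQ : Nondeg Q) :
    Sim (polarBilin Q) (natR Q) ((MonoidHom.snd _ _).comp (SimG Q).subtype) :=
  ⟨fun x y => polar_comm Q x y, fun x hx => hQ x hx, fun g x y => g.2.polar x y⟩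

/-- the automorphism induced by a similitude -/
noncomputable def psiS (Q : QuadraticForm F V) : SimG Q →* MulAut (P Q) :=
  (Psi Q).comp ((MonoidHom.fst _ _).comp (SimG Q).subtype)

theorem psiS_eq_one {x : SimG Q} (h : ∀ f : Module.End F V, natR Q x * f = f * natR Q x) : psiS Q x = 1 := by
  have h1 : conjE Q x.1.1 = 1 := by
    ext g : 2
    rw [coe_conjE]
    ext v
    obtain ⟨v, rfl⟩ := x.1.1.1.surjective v
    rw [conjLin_apply']
    exact LinearMap.congr_fun (h (g.1 : V →ₗ[F] V)) v
  show Cfsg.Agent.ClassicalGeometry.SympAutSemi.quotAut (conjE Q x.1.1) = 1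
  rw [h1, map_one]

theorem ker_psiS (hG : Good Q) {x : SimG Q} (hx : psiS Q x = 1) (y : SimG Q) : x * y = y * x := by
  have h1 : x.1.1 ∈ (Psi Q).ker := hx
  rw [ker_Psi hG] at h1
  obtain ⟨a, ha⟩ := h1
  apply Subtype.ext
  refine Prod.ext ?_ (mul_comm _ _)
  apply Subtype.ext
  ext v
  show x.1.1.1 (y.1.1.1 v) = y.1.1.1 (x.1.1.1 v)
  rw [← ha, scal_apply, scal_apply, y.2.smul]
  rfl

/-- Solvable groups of projective similitudes in dimension eight have derived length at most seven. -/
theorem sd_seven (hL : LinB) [Finite F] [Finite V] (hG : Good Q) (hd : finrank F V = 8) (Y : Subgroup (MulAut (P Q)))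
    (hY : Group.IsSolvable Y) (hle : Y ≤ (psiS Q).range) : derivedSeries Y 7 = ⊥ := by
  let Z : Subgroup (SimG Q) := Y.comap (psiS Q)
  let f : Z →* Y := (psiS Q).subgroupComap Y
  have hf : Function.Surjective f := by
    intro y
    obtain ⟨x, hx⟩ := hle y.2
    exact ⟨⟨x, by show psiS Q x ∈ Y; rw [hx]; exact y.2⟩, Subtype.ext hx⟩
  have hZ : Group.IsSolvable Z := by
    have h1 : Group.IsSolvable f.ker := by
      refine ⟨⟨1, derivedSeries_comm (fun a b => ?_) le_rfl⟩⟩
      apply Subtype.ext
      apply Subtype.ext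
      exact ker_psiS hG (congrArg Subtype.val a.2) _
    exact Group.isSolvable_of_ker_le_range f.ker.subtype f (by rw [Subgroup.range_subtype])
  have hs := sim_natR hG.nondeg
  have hs' : Sim (polarBilin Q) ((natR Q).comp Z.subtype)
      (((MonoidHom.snd _ _).comp (SimG Q).subtype).comp Z.subtype) := ⟨hs.symm, hs.nd, fun g => hs.sim g⟩
  have : FiniteDimensional F V := Module.Finite.of_finite
  have h := eight' hL hd hs'
  rw [← map_derivedSeries_of_surj hf, Subgroup.map_eq_bot_iff]
  intro x hx
  exact Subtype.ext (psiS_eq_one (h x hx))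

theorem mem_range_psiS (hG : Good Q) {M : Gam Q} (hM : sg hG M = 1) : Psi Q M ∈ (psiS Q).range := by
  obtain ⟨σ, c, h⟩ := M.2
  have h1 : σ = RingEquiv.refl F := (sg_eq hG h).symm.trans hM
  subst h1
  exact ⟨⟨(M, Units.mk0 c h.ne), h⟩, rfl⟩

end sim

open Cfsg.Agent.LieClassical.QuadForms Cfsg.Agent.H989.OutOrth.Four

/-- Solvable subgroups of `Aut PΩ₈⁺(q)` have derived length at most nine. -/
theorem sd_aut (hL : LinB) (F : Type) [Field F] [Fintype F] : SD 9 (MulAut (P (plusForm 4 F))) := by
  intro X hX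
  have hG : Good (plusForm 4 F) := good4
  let Y : Subgroup (MulAut (P (plusForm 4 F))) := (derivedSeries X 2).map X.subtype
  have hY : Group.IsSolvable Y :=
    Group.isSolvable_of_surjective (f := X.subtype.subgroupMap (derivedSeries X 2))
      (X.subtype.subgroupMap_surjective _)
  have hle : Y ≤ (psiS (plusForm 4 F)).range := by
    intro α hα
    obtain ⟨M, hM, rfl⟩ := aut_two (map_derivedSeries_le X.subtype 2 hα)
    exact mem_range_psiS hG hM
  have h1 := sd_seven hL hG (by rw [Module.finrank_fintype_fun_eq_card]; simp) Y hY hle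
  have h2 := derivedSeries_add_le (G := X) (N := derivedSeries X 2) (m := 2) le_rfl 7
  have h3 : derivedSeries (derivedSeries X 2) 7 = ⊥ :=
    derivedSeries_eq_bot_of_equiv ((derivedSeries X 2).equivMapOfInjective X.subtype X.subtype_injective) h1
  rw [h3, Subgroup.map_bot] at h2
  exact le_bot_iff.1 h2

/-- **The box `BoxD4`.** -/
theorem boxD4_of (hL : LinB) : Cl.BoxD4 := by
  rintro - G _ _ S H hS ⟨F, _, _, ⟨e⟩⟩
  have hN := hS.normal
  have hG : Good (plusForm 4 F) := good4
  have e0 : ∀ q : (Fin 4 ⊕ Fin 4 → F) → F, ⇑(plusForm 4 F) = q → Nonempty (POmega F q ≃* P (plusForm 4 F)) := by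
    rintro _ rfl
    exact ⟨pomegaEquiv hG⟩
  obtain ⟨e1⟩ := e0 _ (coe_plusForm 4)
  have e' : S ≃* P (plusForm 4 F) := e.trans e1
  have hinj : Function.Injective (MulAut.conjNormal : G →* MulAut S) := by
    rw [injective_iff_map_eq_one]
    intro x hx
    have h1 : x ∈ Subgroup.centralizer (S : Set G) := by
      rw [Subgroup.mem_centralizer_iff]
      intro y hy
      have h3 : x * y * x⁻¹ = y := congrArg Subtype.val (DFunLike.congr_fun hx (⟨y, hy⟩ : S))
      rw [mul_inv_eq_iff_eq_mul] at h3
      exact h3.symm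
    rwa [hS.cent, Subgroup.mem_bot] at h1
  have h1 : SD 9 G := Gen.SD.of_inj ((MulAut.congr e').toMonoidHom.comp MulAut.conjNormal)
    ((MulAut.congr e').injective.comp hinj) (sd_aut hL F)
  exact Gen.ps_of_sd (Gen.SD.of_inj H.subtype H.subtype_injective h1)

end Cfsg.Agent.DS.D4
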